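import Groth.Prelude.Def_LefX
import Groth.Agent.Lib.ConeConn3.Complete
import Groth.Agent.Lib.GRingComplete.Excellent
import Groth.Agent.Lib.Altitude.Chains

/-!
# Punctured spectra: dimension of subsets and connectedness in dimension `≥ k`
-/

set_option autoImplicit false
universe u

open IsLocalRing Topology TopologicalSpace

namespace GrothLib.Conn1

variable {R : Type u} [CommRing R]

/-- Quasi-sober subspaces of a prime spectrum: dimension through the specialization order. -/
theorem topologicalKrullDim_eq_krullDim (X : Type u) [TopologicalSpace X] [QuasiSober X]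
    [Preorder X] (i : X → PrimeSpectrum R) (hi : IsEmbedding i)
    (hle : ∀ x y : X, x ≤ y ↔ i x ≤ i y) :
    topologicalKrullDim X = Order.krullDim X := by
  haveI : T0Space X := hi.t0Space
  letI : OrderDual X → X := OrderDual.ofDual
  let e : IrreducibleCloseds X ≃o Xᵒᵈ :=
    { toEquiv := (irreducibleSetEquivPoints (α := X)).toEquiv.trans OrderDual.toDual
      map_rel_iff' := by
        intro s t
        refine Iff.trans ?_ (irreducibleSetEquivPoints (α := X)).map_rel_iff
        refine ((hle _ _).trans (PrimeSpectrum.le_iff_specializes _ _)).trans ?_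
        exact hi.isInducing.specializes_iff }
  rw [topologicalKrullDim, Order.krullDim_eq_of_orderIso e, Order.krullDim_orderDual]

theorem enat_lt_natCast_of_add_one_le {x : WithBot ℕ∞} {n : ℕ} (h : x + 1 ≤ (n : WithBot ℕ∞)) :
    x < (n : WithBot ℕ∞) := by
  induction x with
  | bot => exact WithBot.bot_lt_coe _
  | coe x =>
    cases x using ENat.recTopCoe with
    | top => exact absurd h (not_le.2 (WithBot.coe_lt_coe.2 (by simp : (n : ℕ∞) < (⊤ : ℕ∞) + 1)))
    | coe j => exact_mod_cast (show j < n by
        have : j + 1 ≤ n := by exact_mod_cast h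
        omega)

theorem add_one_le_of_lt_natCast {x : WithBot ℕ∞} {n : ℕ} (h : x < (n : WithBot ℕ∞)) :
    x + 1 ≤ (n : WithBot ℕ∞) := by
  induction x with
  | bot => simp
  | coe x =>
    cases x using ENat.recTopCoe with
    | top => exact absurd h (by simp)
    | coe j => exact_mod_cast (show j + 1 ≤ n by
        have : j < n := by exact_mod_cast h
        omega)

theorem succ_le_of_not_le {x : WithBot ℕ∞} {n : ℕ} (h : ¬ x ≤ (n : WithBot ℕ∞)) :
    ((n + 1 : ℕ) : WithBot ℕ∞) ≤ x := by
  by_contra h'
  have h2 := add_one_le_of_lt_natCast (not_le.1 h')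
  induction x with
  | bot => exact h bot_le
  | coe x =>
    cases x using ENat.recTopCoe with
    | top => exact h' (by simp)
    | coe j => exact h (by exact_mod_cast (show j ≤ n by
        have : j + 1 ≤ n + 1 := by exact_mod_cast h2
        omega))

theorem le_of_le_add {c : WithBot ℕ∞} {a b : ℕ} (h : ((a + b : ℕ) : WithBot ℕ∞) ≤ c + (b : WithBot ℕ∞)) :
    (a : WithBot ℕ∞) ≤ c := by
  induction c with
  | bot => simp at h
  | coe c =>
    cases c using ENat.recTopCoe with
    | top => simp
    | coe j => exact_mod_cast (show a ≤ j by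
        have : a + b ≤ j + b := by exact_mod_cast h
        omega)

variable [IsLocalRing R]

variable (R) in
/-- The punctured spectrum as a set. -/
def punct : Set (PrimeSpectrum R) := {closedPoint R}ᶜ

theorem mem_punct {x : PrimeSpectrum R} : x ∈ punct R ↔ x ≠ closedPoint R := Iff.rfl

theorem isOpen_punct : IsOpen (punct R) :=
  (isClosed_singleton_closedPoint (R := R)).isOpen_compl

theorem closedPoint_mem_of_mem {W : Set (PrimeSpectrum R)} (hW : IsClosed W) {x : PrimeSpectrum R}
    (hx : x ∈ W) : closedPoint R ∈ W :=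
  ((PrimeSpectrum.le_iff_specializes _ _).1 (le_maximalIdeal x.isPrime.ne_top)).mem_closed hW hx

instance quasiSober_punct : QuasiSober (punct R) := (isOpen_punct (R := R)).isOpenEmbedding_subtypeVal.quasiSober

theorem dim_set {S : Set (PrimeSpectrum R)} [QuasiSober S] :
    topologicalKrullDim S = Order.krullDim S :=
  topologicalKrullDim_eq_krullDim S Subtype.val IsEmbedding.subtypeVal fun _ _ => Iff.rfl

theorem dim_sub {Z : Set (punct R)} (hZ : IsClosed Z) : topologicalKrullDim Z = Order.krullDim Z := by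
  haveI : QuasiSober Z := hZ.isClosedEmbedding_subtypeVal.quasiSober
  exact topologicalKrullDim_eq_krullDim Z (fun z => (z.1.1 : PrimeSpectrum R))
    (IsEmbedding.subtypeVal.comp IsEmbedding.subtypeVal) fun _ _ => Iff.rfl

/-- Removing the closed point lowers the dimension. -/
theorem dim_preimage_lt {W : Set (PrimeSpectrum R)} (hW : IsClosed W) {n : ℕ}
    (hn : topologicalKrullDim W ≤ (n : WithBot ℕ∞)) :
    topologicalKrullDim ((Subtype.val : punct R → PrimeSpectrum R) ⁻¹' W) < (n : WithBot ℕ∞) := by
  rw [dim_sub (hW.preimage continuous_subtype_val)]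
  haveI : QuasiSober W := hW.isClosedEmbedding_subtypeVal.quasiSober
  rw [dim_set] at hn
  generalize hV : ((Subtype.val : punct R → PrimeSpectrum R) ⁻¹' W) = V
  rcases isEmpty_or_nonempty V with hE | hN
  · rw [Order.krullDim_eq_bot]
    exact WithBot.bot_lt_coe _
  obtain ⟨v⟩ := id hN
  have hVW : ∀ z : V, z.1.1 ∈ W := fun z => by
    have := z.2
    simp only [← hV, Set.mem_preimage] at this
    exact this
  have hm : closedPoint R ∈ W := closedPoint_mem_of_mem hW (hVW v)
  let G : WithTop V → W := fun s => s.elim ⟨closedPoint R, hm⟩ fun z => ⟨z.1.1, hVW z⟩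
  have hG : StrictMono G := by
    intro a b hab
    induction a using WithTop.recTopCoe with
    | top => exact absurd hab not_top_lt
    | coe a =>
      induction b using WithTop.recTopCoe with
      | top =>
        exact (lt_of_le_of_ne (show a.1.1 ≤ closedPoint R from le_maximalIdeal a.1.1.isPrime.ne_top)
          (fun h => a.1.2 h) : a.1.1 < closedPoint R)
      | coe b => exact (WithTop.coe_lt_coe.1 hab : a < b)
  have := (Order.krullDim_le_of_strictMono G hG).trans hn
  rw [Order.krullDim_WithTop] at this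
  exact enat_lt_natCast_of_add_one_le this

/-- Adding the closed point raises the dimension by at most one. -/
theorem dim_insert_le {Z : Set (punct R)} (hZ : IsClosed Z)
    {W : Set (PrimeSpectrum R)} (hW : IsClosed W) (hWZ : W ⊆ insert (closedPoint R) (Subtype.val '' Z))
    {n : ℕ} (hn : topologicalKrullDim Z < (n : WithBot ℕ∞)) :
    topologicalKrullDim W ≤ (n : WithBot ℕ∞) := by
  classical
  haveI : QuasiSober W := hW.isClosedEmbedding_subtypeVal.quasiSober
  rw [dim_set]
  rw [dim_sub hZ] at hn
  have hmem : ∀ w : W, w.1 ≠ closedPoint R → ∃ z : Z, (z.1.1 : PrimeSpectrum R) = w.1 := fun w hw => by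
    obtain ⟨z, hz, h⟩ := (hWZ w.2).resolve_left hw
    exact ⟨⟨z, hz⟩, h⟩
  choose g hg using hmem
  let G : W → WithTop Z := fun w => if h : w.1 = closedPoint R then ⊤ else (g w h : Z)
  have hG : StrictMono G := by
    intro a b hab
    have ha : a.1 ≠ closedPoint R := fun h => not_lt_of_ge (show b.1 ≤ a.1 by
      rw [h]; exact le_maximalIdeal b.1.isPrime.ne_top) (show a.1 < b.1 from hab)
    simp only [G, dif_neg ha]
    by_cases hb : b.1 = closedPoint R
    · rw [dif_pos hb]; exact WithTop.coe_lt_top _
    · rw [dif_neg hb]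
      refine WithTop.coe_lt_coe.2 ?_
      show (g a ha).1.1 < (g b hb).1.1
      rw [hg, hg]
      exact hab
  refine (Order.krullDim_le_of_strictMono G hG).trans ?_
  rcases isEmpty_or_nonempty Z with hE | hN
  · refine le_trans ?_ (show ((0 : ℕ) : WithBot ℕ∞) ≤ (n : WithBot ℕ∞) by exact_mod_cast Nat.zero_le n)
    rw [Nat.cast_zero]
    haveI : Subsingleton (WithTop Z) := ⟨fun a b => by
      induction a using WithTop.recTopCoe with
      | top => induction b using WithTop.recTopCoe with
        | top => rfl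
        | coe b => exact hE.elim b
      | coe a => exact hE.elim a⟩
    exact Order.krullDim_nonpos_of_subsingleton
  rw [Order.krullDim_WithTop]
  exact add_one_le_of_lt_natCast hn

/-- Connectedness in dimension `≥ k` of the punctured spectrum gives a bound on `connDim`. -/
theorem le_connDim_of_connectedInDim {k : ℕ} (h : LefX.ConnectedInDim (punct R) k) :
    ((k + 1 : ℕ) : WithBot ℕ∞) ≤ LocCoh.connDim (PrimeSpectrum R) := by
  refine le_iInf₂ fun Z hZ => ?_
  by_contra hlt
  obtain ⟨hZc, hZn⟩ := hZ
  have hle : topologicalKrullDim Z ≤ (k : WithBot ℕ∞) := by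
    by_contra h'
    exact hlt (succ_le_of_not_le h')
  rcases Z.eq_empty_or_nonempty with rfl | ⟨x, hx⟩
  · apply hZn
    rw [Set.compl_empty]
    refine ⟨Set.univ_nonempty, ?_⟩
    intro u v hu hv huv ⟨a, _, ha⟩ ⟨b, _, hb⟩
    rcases huv (Set.mem_univ (closedPoint R)) with hm | hm
    · exact ⟨b, trivial, ((PrimeSpectrum.le_iff_specializes b (closedPoint R)).1
        (le_maximalIdeal b.isPrime.ne_top)).mem_open hu hm, hb⟩
    · exact ⟨a, trivial, ha, ((PrimeSpectrum.le_iff_specializes a (closedPoint R)).1
        (le_maximalIdeal a.isPrime.ne_top)).mem_open hv hm⟩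
  have hm : closedPoint R ∈ Z := closedPoint_mem_of_mem hZc hx
  have hc := h _ (hZc.preimage continuous_subtype_val) (dim_preimage_lt hZc hle)
  have himg := hc.image Subtype.val continuous_subtype_val.continuousOn
  apply hZn
  convert himg using 1
  ext y
  refine ⟨fun hy => ⟨⟨y, fun e => hy (e ▸ hm)⟩, hy, rfl⟩, ?_⟩
  rintro ⟨z, hz, rfl⟩
  exact hz

/-- A bound on `connDim` gives connectedness in dimension `≥ k` of the punctured spectrum. -/
theorem connectedInDim_of_le_connDim {k : ℕ}
    (h : ((k + 1 : ℕ) : WithBot ℕ∞) ≤ LocCoh.connDim (PrimeSpectrum R)) :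
    LefX.ConnectedInDim (punct R) k := by
  intro Z hZ hdim
  obtain ⟨W₀, hW₀, hWZ₀⟩ := isClosed_induced_iff.1 hZ
  let W := W₀ ∪ {closedPoint R}
  have hW : IsClosed W := hW₀.union (isClosed_singleton_closedPoint (R := R))
  have hWsub : W ⊆ insert (closedPoint R) (Subtype.val '' Z) := by
    intro x hx
    by_cases hxm : x = closedPoint R
    · exact Or.inl hxm
    · refine Or.inr ⟨⟨x, hxm⟩, ?_, rfl⟩
      rw [← hWZ₀]
      exact hx.resolve_right hxm
  have hd := dim_insert_le hZ hW hWsub hdim
  have hconn : IsConnected Wᶜ := by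
    by_contra hn
    have h1 : LocCoh.connDim (PrimeSpectrum R) ≤ (k : WithBot ℕ∞) := le_trans (iInf₂_le W ⟨hW, hn⟩) hd
    have h2 := h.trans h1
    have : k + 1 ≤ k := by exact_mod_cast h2
    omega
  have hpre : (Subtype.val : punct R → PrimeSpectrum R) '' Zᶜ = Wᶜ := by
    ext x
    constructor
    · rintro ⟨z, hz, rfl⟩ (h' | h')
      · exact hz (by rw [← hWZ₀]; exact h')
      · exact z.2 h'
    · intro hx
      exact ⟨⟨x, fun e => hx (Or.inr e)⟩, fun h' => hx (Or.inl (by rw [← hWZ₀] at h'; exact h')), rfl⟩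
  rw [← hpre] at hconn
  exact ⟨hconn.nonempty.of_image, IsInducing.subtypeVal.isPreconnected_image.1 hconn.isPreconnected⟩

/-- Irreducible components of the punctured spectrum of dimension `≥ n + 1` give big minimal primes. -/
theorem succ_le_dim_quotient_of_components {n : ℕ}
    (h : ∀ Z ∈ irreducibleComponents (punct R), ((n + 1 : ℕ) : WithBot ℕ∞) ≤ topologicalKrullDim Z)
    {p : Ideal R} (hp : p ∈ minimalPrimes R) (hne : p ≠ maximalIdeal R) :
    ((n + 2 : ℕ) : WithBot ℕ∞) ≤ ringKrullDim (R ⧸ p) := by
  haveI := hp.1.1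
  rw [← HLVT.topologicalKrullDim_zeroLocus]
  apply succ_le_of_not_le
  intro hle
  let x : PrimeSpectrum R := ⟨p, inferInstance⟩
  have hx : x ∈ punct R := fun e => hne (congrArg PrimeSpectrum.asIdeal e)
  let Z : Set (punct R) := Subtype.val ⁻¹' PrimeSpectrum.zeroLocus (p : Set R)
  have hlt : topologicalKrullDim Z < ((n + 1 : ℕ) : WithBot ℕ∞) :=
    dim_preimage_lt (PrimeSpectrum.isClosed_zeroLocus _) hle
  have hZcl : Z = closure {(⟨x, hx⟩ : punct R)} := by
    rw [IsInducing.subtypeVal.closure_eq_preimage_closure_image, Set.image_singleton,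
      PrimeSpectrum.closure_singleton]
  have hZ : Z ∈ irreducibleComponents (punct R) := by
    rw [hZcl]
    refine ⟨isIrreducible_singleton.closure, fun S hS hsub => ?_⟩
    have hgen := hS.isGenericPoint_genericPoint_closure
    set y := hS.genericPoint
    have hxy : y ⤳ (⟨x, hx⟩ : punct R) := hgen.specializes (subset_closure (hsub (subset_closure rfl)))
    have hle' : y.1.asIdeal ≤ p :=
      (PrimeSpectrum.le_iff_specializes y.1 x).2 (hxy.map continuous_subtype_val)
    have heq : y = (⟨x, hx⟩ : punct R) :=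
      Subtype.ext (PrimeSpectrum.ext (le_antisymm hle' (hp.2 ⟨y.1.isPrime, bot_le⟩ hle')))
    rw [← heq, hgen]
    exact subset_closure
  exact absurd (h Z hZ) (not_le.2 hlt)

/-- Conversely, big minimal primes give big components of the punctured spectrum. -/
theorem components_of_succ_le_dim_quotient {n : ℕ}
    (h : ∀ p ∈ minimalPrimes R, ((n + 2 : ℕ) : WithBot ℕ∞) ≤ ringKrullDim (R ⧸ p))
    {Z : Set (punct R)} (hZ : Z ∈ irreducibleComponents (punct R)) :
    ((n + 1 : ℕ) : WithBot ℕ∞) ≤ topologicalKrullDim Z := by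
  by_contra hlt
  have hZc := isClosed_of_mem_irreducibleComponents Z hZ
  have hgen := hZ.1.isGenericPoint_genericPoint hZc
  set y := hZ.1.genericPoint
  obtain ⟨p, hp, hpy⟩ := Ideal.exists_minimalPrimes_le (I := (⊥ : Ideal R)) (J := y.1.asIdeal) bot_le
  haveI := hp.1.1
  have hpne : (⟨p, inferInstance⟩ : PrimeSpectrum R) ∈ punct R := fun e => y.2 (PrimeSpectrum.ext
    (le_antisymm (le_maximalIdeal y.1.isPrime.ne_top)
      ((congrArg PrimeSpectrum.asIdeal e).ge.trans hpy)))
  let x : punct R := ⟨⟨p, inferInstance⟩, hpne⟩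
  have hxy : x ⤳ y := IsInducing.subtypeVal.specializes_iff.1
    ((PrimeSpectrum.le_iff_specializes x.1 y.1).1 hpy)
  have hZx : Z = closure {x} := by
    have hsub : Z ⊆ closure {x} := by
      rw [← hgen.def]
      exact closure_minimal (Set.singleton_subset_iff.2 (specializes_iff_mem_closure.1 hxy)) isClosed_closure
    exact subset_antisymm hsub (hZ.2 isIrreducible_singleton.closure hsub)
  have hWsub : PrimeSpectrum.zeroLocus (p : Set R) ⊆ insert (closedPoint R) (Subtype.val '' Z) := by
    intro z hz
    by_cases hzm : z = closedPoint R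
    · exact Or.inl hzm
    · refine Or.inr ⟨⟨z, hzm⟩, ?_, rfl⟩
      rw [hZx, ← specializes_iff_mem_closure, ← IsInducing.subtypeVal.specializes_iff,
        ← PrimeSpectrum.le_iff_specializes]
      exact hz
  have hd := dim_insert_le hZc (PrimeSpectrum.isClosed_zeroLocus _) hWsub (not_le.1 hlt)
  rw [HLVT.topologicalKrullDim_zeroLocus] at hd
  have : n + 2 ≤ n + 1 := by exact_mod_cast (h p hp).trans hd
  omega

variable [IsNoetherianRing R]

/-- In a complete local ring, a minimal prime over `m` elements drops the dimension by at most `m`. -/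
theorem le_dim_quotient_add [IsAdicComplete (maximalIdeal R) R] {m : ℕ} (f : Fin m → R)
    {p q : Ideal R} [p.IsPrime] [q.IsPrime] (hpq : p ≤ q)
    (hq : q ∈ (Ideal.span (Set.range f)).minimalPrimes) :
    ringKrullDim (R ⧸ p) ≤ ringKrullDim (R ⧸ q) + (m : WithBot ℕ∞) := by
  classical
  let π := Ideal.Quotient.mk p
  haveI : IsLocalRing (R ⧸ p) := IsLocalRing.of_surjective' π Ideal.Quotient.mk_surjective
  haveI : IsAdicComplete (maximalIdeal (R ⧸ p)) (R ⧸ p) :=
    GrothLib.AdicExtra.isAdicComplete_localRing (R := R) (S := R ⧸ p)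
  have hcat : CAlg.IsCatenary (R ⧸ p) :=
    (GrothLib.GRingComplete.isUniversallyCatenary_completeDomain (R ⧸ p)).2 (R ⧸ p) inferInstance
  haveI hQp : (q.map π).IsPrime := Ideal.isPrime_map_quotientMk_of_isPrime hpq
  have hQle : q.map π ≤ maximalIdeal (R ⧸ p) := le_maximalIdeal hQp.ne_top
  have hadd := GrothLib.Altitude.height_eq_add_of_isCatenary hcat (q.map π) (maximalIdeal (R ⧸ p)) hQle
  have hmin : q.map π ∈ (Ideal.span (((Finset.univ.image fun i => π (f i)) : Finset (R ⧸ p)) : Set (R ⧸ p))).minimalPrimes := by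
    refine ⟨⟨hQp, Ideal.span_le.2 ?_⟩, ?_⟩
    · intro z hz
      simp only [Finset.coe_image, Set.mem_image] at hz
      obtain ⟨i, -, rfl⟩ := hz
      exact Ideal.mem_map_of_mem π (hq.1.2 (Ideal.subset_span (Set.mem_range_self i)))
    · rintro J ⟨hJ, hJle⟩ hJq
      have h1 : J.comap π ≤ q := fun z hz => by
        have := Ideal.mem_comap.2 (hJq hz)
        rwa [Ideal.comap_map_of_surjective' π Ideal.Quotient.mk_surjective, Ideal.mk_ker, sup_eq_left.2 hpq] at this
      have h2 := hq.2 ⟨hJ.comap π, Ideal.span_le.2 (by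
        rintro _ ⟨i, rfl⟩
        exact hJle (Ideal.subset_span (by simp)))⟩ h1
      exact Ideal.map_le_iff_le_comap.2 h2
  have hht : (q.map π).height ≤ (m : ℕ∞) :=
    (Ideal.height_le_card_of_mem_minimalPrimes_span_finset hmin).trans (by
      exact_mod_cast Finset.card_image_le.trans (by simp))
  haveI : IsLocalRing ((R ⧸ p) ⧸ q.map π) :=
    IsLocalRing.of_surjective' (Ideal.Quotient.mk _) Ideal.Quotient.mk_surjective
  rw [map_maximalIdeal_of_surjective (Ideal.Quotient.mk (q.map π)) Ideal.Quotient.mk_surjective] at hadd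
  have hd : ringKrullDim ((R ⧸ p) ⧸ q.map π) = ringKrullDim (R ⧸ q) :=
    ringKrullDim_eq_of_ringEquiv ((DoubleQuot.quotQuotEquivQuotSup p q).trans
      (Ideal.quotEquivOfEq (sup_eq_right.2 hpq)))
  rw [← maximalIdeal_height_eq_ringKrullDim, ← hd, ← maximalIdeal_height_eq_ringKrullDim, hadd,
    add_comm (q.map π).height, WithBot.coe_add]
  exact add_le_add le_rfl (by exact_mod_cast hht)

/-- The subdimension of a local ring through minimal primes. -/
theorem le_subdim {c : WithBot ℕ∞} (h : ∀ p ∈ minimalPrimes R, c ≤ ringKrullDim (R ⧸ p)) :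
    c ≤ LocCoh.subdim (PrimeSpectrum R) := by
  rw [GrothLib.ConeConn3.Cpl.subdim_bot]
  exact le_iInf₂ h

end GrothLib.Conn1
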