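import Groth.Agent.Lib.HLVT.Ara
import Groth.Agent.Lib.Conn1.Punctured

/-!
# Connectedness dimension of `V(a)` through the cohomological dimension of `a`
-/

set_option autoImplicit false
universe u

open CategoryTheory IsLocalRing

namespace GrothLib.Conn1

variable {R : Type u} [CommRing R] [IsNoetherianRing R] [IsLocalRing R] [IsAdicComplete (maximalIdeal R) R]

open GrothLib.HLVT in
/-- `min (c(R) + 1, sdim R) ≤ c(R/a) + cd a + 1`. -/
theorem min_connDim_subdim_le_cd (a : Ideal R) (ha : a ≠ ⊤) (k : ℕ) (hk : LocCoh.CdLE R a k) :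
    min (LocCoh.connDim (PrimeSpectrum R) + 1) (LocCoh.subdim (PrimeSpectrum R)) ≤
      LocCoh.connDim (PrimeSpectrum (R ⧸ a)) + (k : WithBot ℕ∞) + 1 := by
  have : Nontrivial (R ⧸ a) := Ideal.Quotient.nontrivial_iff.2 ha
  have : IsLocalRing (R ⧸ a) := IsLocalRing.of_surjective' (Ideal.Quotient.mk a) Ideal.Quotient.mk_surjective
  rcases exists_connDim_pair (R := R ⧸ a) with h | ⟨I, J, hI, hJ, hIJ, hc, hlt, hlt'⟩
  · obtain ⟨e, he⟩ := exists_nat_ringKrullDim_quotient ha
    obtain ⟨P, hP⟩ := (Ideal.nonempty_minimalPrimes (I := (⊥ : Ideal R)) bot_ne_top)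
    refine (min_le_right _ _).trans ((subdim_le P hP).trans ((ringKrullDim_quotient_le P).trans ?_))
    refine (ringKrullDim_le_cd_add e a k ha he.le hk).trans ?_
    rw [he] at h
    refine le_trans ?_ (add_le_add (add_le_add h le_rfl) le_rfl)
    exact_mod_cast (show k + e ≤ e + k + 1 by omega)
  · let q := Ideal.Quotient.mk a
    have hq : Function.Surjective q := Ideal.Quotient.mk_surjective
    have hne : I ⊔ J ≠ ⊤ := ne_top_of_le_ne_top (maximalIdeal.isMaximal (R ⧸ a)).ne_top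
      (sup_le (le_maximalIdeal hI) (le_maximalIdeal hJ))
    obtain ⟨d, hd⟩ := exists_nat_ringKrullDim_quotient hne
    have hsup : I.comap q ⊔ J.comap q = (I ⊔ J).comap q := by
      rw [← (Ideal.comap_map_of_surjective' q hq (I.comap q ⊔ J.comap q)).trans (sup_eq_left.2 (le_sup_of_le_left (b := J.comap q)
        (Ideal.comap_mono (f := q) (bot_le : ⊥ ≤ I)))), Ideal.map_sup, Ideal.map_comap_of_surjective q hq,
        Ideal.map_comap_of_surjective q hq]
    have hk' : LocCoh.CdLE R (I.comap q ⊓ J.comap q) k := cdLE_of_radical (fun P hP => by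
      constructor
      · intro hle x hx
        have h1 : q x ∈ nilradical (R ⧸ a) := hIJ hx
        obtain ⟨n, hn⟩ := (mem_nilradical.1 h1)
        rw [← map_pow, Ideal.Quotient.eq_zero_iff_mem] at hn
        exact hP.mem_of_pow_mem n (hle hn)
      · exact fun hle => le_trans (le_inf (fun x hx => by simp [q, Ideal.Quotient.eq_zero_iff_mem.2 hx])
          (fun x hx => by simp [q, Ideal.Quotient.eq_zero_iff_mem.2 hx])) hle) hk
    have h2 := min_connDim_subdim_le (I.comap q) (J.comap q) d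
      (by rw [hsup]; exact Ideal.comap_ne_top q hne)
      (by rw [hsup, ringKrullDim_quotient_comap q hq, hd])
      (by rw [ringKrullDim_quotient_comap q hq, ← hd]; exact hlt)
      (by rw [ringKrullDim_quotient_comap q hq, ← hd]; exact hlt') k hk'
    refine h2.trans ?_
    rw [hd] at hc
    refine le_trans (le_of_eq ?_) (add_le_add (add_le_add hc le_rfl) le_rfl)
    push_cast
    rfl

/-- `V(a) ∖ Z` is connected when `dim Z + cd a + 1` is small. -/
theorem isConnected_zeroLocus_diff (a : Ideal R) (ha : a ≠ ⊤) (e : ℕ) (he : LocCoh.CdLE R a e)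
    (Z : Set (PrimeSpectrum R)) (hZ : IsClosed Z) (hZI : Z ⊆ PrimeSpectrum.zeroLocus (a : Set R))
    (hdim : ∀ p ∈ minimalPrimes R, topologicalKrullDim Z + ((e + 1 : ℕ) : WithBot ℕ∞) < ringKrullDim (R ⧸ p))
    (hc : ∀ Z' : Set (PrimeSpectrum R), IsClosed Z' → ¬ _root_.IsConnected Z'ᶜ →
      topologicalKrullDim Z + ((e : ℕ) : WithBot ℕ∞) < topologicalKrullDim Z') :
    _root_.IsConnected (PrimeSpectrum.zeroLocus (a : Set R) \ Z) := by
  rcases Z.eq_empty_or_nonempty with rfl | ⟨z, hz⟩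
  · rw [Set.sdiff_empty]
    refine ⟨⟨closedPoint R, le_maximalIdeal ha⟩, fun u v hu hv huv ⟨x, hx, hxu⟩ ⟨y, hy, hyv⟩ => ?_⟩
    rcases huv (show closedPoint R ∈ _ from le_maximalIdeal ha) with hm | hm
    · exact ⟨y, hy, ((PrimeSpectrum.le_iff_specializes y (closedPoint R)).1
        (le_maximalIdeal y.isPrime.ne_top)).mem_open hu hm, hyv⟩
    · exact ⟨x, hx, hxu, ((PrimeSpectrum.le_iff_specializes x (closedPoint R)).1
        (le_maximalIdeal x.isPrime.ne_top)).mem_open hv hm⟩
  obtain ⟨J, rfl⟩ := (PrimeSpectrum.isClosed_iff_zeroLocus_ideal Z).1 hZ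
  have hJ : J ≠ ⊤ := ne_top_of_le_ne_top z.isPrime.ne_top hz
  obtain ⟨d, hd⟩ := GrothLib.HLVT.exists_nat_ringKrullDim_quotient hJ
  rw [HLVT.topologicalKrullDim_zeroLocus, hd] at hdim hc
  have hsub : ((d + e + 2 : ℕ) : WithBot ℕ∞) ≤ LocCoh.subdim (PrimeSpectrum R) := le_subdim fun p hp => by
    refine succ_le_of_not_le fun hle => not_lt.2 hle ?_
    have := hdim p hp
    rwa [← Nat.cast_add, ← add_assoc] at this
  have hconn : ((d + e + 1 : ℕ) : WithBot ℕ∞) ≤ LocCoh.connDim (PrimeSpectrum R) :=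
    le_iInf₂ fun Z' hZ' => succ_le_of_not_le fun hle => not_lt.2 hle (by
      have := hc Z' hZ'.1 hZ'.2
      rwa [← Nat.cast_add] at this)
  have h1 := (le_min (le_trans (le_of_eq (by push_cast; rw [add_assoc _ (1 : WithBot ℕ∞), one_add_one_eq_two])) (add_le_add hconn le_rfl))
    hsub).trans (min_connDim_subdim_le_cd a ha e he)
  have hB : ((d + 1 : ℕ) : WithBot ℕ∞) ≤ LocCoh.connDim (PrimeSpectrum (R ⧸ a)) := by
    refine le_of_le_add (b := e + 1) (le_trans (le_of_eq ?_) (h1.trans (le_of_eq ?_)))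
    · exact congrArg _ (by omega)
    · rw [Nat.cast_add, Nat.cast_one, add_assoc]
  let q := Ideal.Quotient.mk a
  let W : Set (PrimeSpectrum (R ⧸ a)) := PrimeSpectrum.comap q ⁻¹' PrimeSpectrum.zeroLocus (J : Set R)
  have hWdim : topologicalKrullDim W ≤ (d : WithBot ℕ∞) := by
    rw [show W = PrimeSpectrum.zeroLocus ((J.map q : Ideal (R ⧸ a)) : Set (R ⧸ a)) by
      rw [show W = PrimeSpectrum.comap q ⁻¹' _ from rfl, PrimeSpectrum.preimage_comap_zeroLocus,
        Ideal.map, PrimeSpectrum.zeroLocus_span], HLVT.topologicalKrullDim_zeroLocus, ← hd]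
    exact ringKrullDim_le_of_surjective (Ideal.quotientMap (J.map q) q Ideal.le_comap_map)
      (Ideal.quotientMap_surjective Ideal.Quotient.mk_surjective)
  have hconnW : _root_.IsConnected Wᶜ := by
    by_contra hn
    have h2 : LocCoh.connDim (PrimeSpectrum (R ⧸ a)) ≤ (d : WithBot ℕ∞) :=
      le_trans (iInf₂_le W ⟨(PrimeSpectrum.isClosed_zeroLocus _).preimage (by fun_prop), hn⟩) hWdim
    have : d + 1 ≤ d := by exact_mod_cast hB.trans h2
    omega
  have h3 := hconnW.image (PrimeSpectrum.comap q) (by fun_prop : Continuous _).continuousOn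
  convert h3 using 1
  ext Q
  constructor
  · rintro ⟨hQa, hQJ⟩
    obtain ⟨Q', rfl⟩ : Q ∈ Set.range (PrimeSpectrum.comap q) := by
      rw [range_comap_of_surjective _ _ Ideal.Quotient.mk_surjective, Ideal.mk_ker]
      exact hQa
    exact ⟨Q', hQJ, rfl⟩
  · rintro ⟨Q', hQ', rfl⟩
    refine ⟨fun x hx => ?_, hQ'⟩
    show q x ∈ Q'.asIdeal
    rw [Ideal.Quotient.eq_zero_iff_mem.2 hx]
    exact zero_mem _

end GrothLib.Conn1
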