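import Groth.Agent.Lib.Conn1.Punctured
import Groth.Agent.Lib.FormalUnibranch.Basic
import Groth.Agent.Lib.Dim.Ring
import Groth.Agent.Lib.FEt21.PunctSections
import Groth.Agent.Lib.FEt21.Clopen
import Groth.Agent.Lib.FEt21.NormalComp
import Groth.Agent.Lib.EtDer.NormalStalk
import Groth.Agent.Lib.ProperFib19.DVR

/-!
# Linear sections of punctured spectra of complete normal local domains
-/

set_option autoImplicit false
set_option backward.isDefEq.respectTransparency false
set_option linter.style.haveILetI false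
universe u

open CategoryTheory CategoryTheory.Limits AlgebraicGeometry IsLocalRing Topology TopologicalSpace

namespace GrothLib.Conn1

/-- `k` equations cut the punctured spectrum of a complete local domain of dimension `≥ k + 2` in a
connected set. -/
theorem isConnected_section {B : Type u} [CommRing B] [IsDomain B] [IsLocalRing B] [IsNoetherianRing B]
    [IsAdicComplete (maximalIdeal B) B] {k : ℕ} (hdim : ((k + 2 : ℕ) : WithBot ℕ∞) ≤ ringKrullDim B)
    (f : Fin k → B) (hf : ∀ i, f i ∈ maximalIdeal B) :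
    _root_.IsConnected {Q : PrimeSpectrum B | Q ≠ closedPoint B ∧ ∀ i, f i ∈ Q.asIdeal} := by
  classical
  set I : Ideal B := Ideal.span (Set.range f) with hIdef
  have hI : I ≠ ⊤ := ne_top_of_le_ne_top (maximalIdeal.isMaximal B).ne_top
    (Ideal.span_le.2 (by rintro _ ⟨i, rfl⟩; exact hf i))
  haveI : Nontrivial (B ⧸ I) := Ideal.Quotient.nontrivial_iff.2 hI
  haveI : IsLocalRing (B ⧸ I) := IsLocalRing.of_surjective' (Ideal.Quotient.mk I) Ideal.Quotient.mk_surjective
  have hsub : ((k + 2 : ℕ) : WithBot ℕ∞) ≤ LocCoh.subdim (PrimeSpectrum B) := le_subdim fun p hp => by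
    rw [IsDomain.minimalPrimes_eq_singleton_bot, Set.mem_singleton_iff] at hp
    subst hp
    rwa [ringKrullDim_eq_of_ringEquiv (RingEquiv.quotientBot B)]
  have hconn : ((k + 2 : ℕ) : WithBot ℕ∞) ≤ LocCoh.connDim (PrimeSpectrum B) + 1 := by
    refine le_trans ?_ (le_add_of_nonneg_right zero_le_one)
    rw [GrothLib.ConnDim.connDim_eq_iInf]
    refine le_iInf fun X => le_iInf fun Y => le_iInf fun h => ?_
    obtain ⟨hX, hY, hXn, hYn, -⟩ := h
    obtain ⟨C, hC⟩ := hXn
    obtain ⟨D, hD⟩ := hYn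
    have huniv : ∀ E ∈ irreducibleComponents (PrimeSpectrum B), E = Set.univ := fun E hE =>
      subset_antisymm (Set.subset_univ _) (hE.2 (IrreducibleSpace.isIrreducible_univ _) (Set.subset_univ _))
    rw [← PrimeSpectrum.topologicalKrullDim_eq_ringKrullDim] at hdim
    rw [← GrothLib.ConnDim.dim_univ] at hdim
    exact hdim.trans (GrothLib.ConnDim.dim_mono fun x _ =>
      ⟨⟨C, hC, huniv C (hX hC) ▸ Set.mem_univ x⟩, ⟨D, hD, huniv D (hY hD) ▸ Set.mem_univ x⟩⟩)
  have h1 := (le_min hconn hsub).trans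
    (GrothLib.HLVT.min_connDim_subdim_le_ara I hI (Finset.univ.image f) (by simp [hIdef]))
  have h2 : ((0 + 1 : ℕ) : WithBot ℕ∞) ≤ LocCoh.connDim (PrimeSpectrum (B ⧸ I)) := by
    refine le_of_le_add (b := k + 1) ?_
    rw [show 0 + 1 + (k + 1) = k + 2 by omega]
    refine h1.trans (le_trans (add_le_add (add_le_add le_rfl ?_) le_rfl)
      (le_of_eq (by rw [Nat.cast_add, Nat.cast_one, add_assoc])))
    exact_mod_cast Finset.card_image_le.trans (by simp)
  have h3 := connectedInDim_of_le_connDim h2 ∅ isClosed_empty (by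
    rw [dim_sub isClosed_empty, Order.krullDim_eq_bot]; exact WithBot.bot_lt_coe _)
  rw [Set.compl_empty] at h3
  have h4 := h3.image (fun x : punct (B ⧸ I) => PrimeSpectrum.comap (Ideal.Quotient.mk I) x.1)
    (by fun_prop : Continuous _).continuousOn
  convert h4 using 1
  ext Q
  constructor
  · rintro ⟨hQ, hfQ⟩
    have hle : I ≤ Q.asIdeal := Ideal.span_le.2 (by rintro _ ⟨i, rfl⟩; exact hfQ i)
    obtain ⟨Q', hQ'⟩ : Q ∈ Set.range (PrimeSpectrum.comap (Ideal.Quotient.mk I)) := by
      rw [range_comap_of_surjective _ _ Ideal.Quotient.mk_surjective, Ideal.mk_ker]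
      exact hle
    refine ⟨⟨Q', fun e => hQ ?_⟩, trivial, hQ'⟩
    rw [← hQ', (show Q' = closedPoint (B ⧸ I) from e)]
    haveI : IsLocalHom (Ideal.Quotient.mk I) :=
      IsLocalHom.of_surjective _ Ideal.Quotient.mk_surjective
    exact IsLocalRing.comap_closedPoint _
  · rintro ⟨Q', -, rfl⟩
    refine ⟨fun e => Q'.2 (PrimeSpectrum.comap_injective_of_surjective _ Ideal.Quotient.mk_surjective ?_),
      fun i => ?_⟩
    · refine (show PrimeSpectrum.comap (Ideal.Quotient.mk I) Q'.1 = closedPoint B from e).trans ?_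
      haveI : IsLocalHom (Ideal.Quotient.mk I) :=
        IsLocalHom.of_surjective _ Ideal.Quotient.mk_surjective
      exact (IsLocalRing.comap_closedPoint _).symm
    · show Ideal.Quotient.mk I (f i) ∈ Q'.1.asIdeal
      rw [Ideal.Quotient.eq_zero_iff_mem.2 ((Ideal.subset_span (Set.mem_range_self i) : f i ∈ I))]
      exact zero_mem _

variable {A : Type u} [CommRing A] [IsDomain A] [IsLocalRing A] [IsNoetherianRing A]
    [IsAdicComplete (maximalIdeal A) A]

/-- The same in a component of a finite algebra. -/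
theorem isConnected_section_finite {S : Type u} [CommRing S] [Algebra A S] [Module.Finite A S]
    {k : ℕ} (hdim : ((k + 2 : ℕ) : WithBot ℕ∞) ≤ ringKrullDim A)
    (f : Fin k → A) (hf : ∀ i, f i ∈ maximalIdeal A)
    (P : PrimeSpectrum S) (hP : P.asIdeal.comap (algebraMap A S) = ⊥) :
    _root_.IsConnected {Q : PrimeSpectrum S | P ≤ Q ∧ PrimeSpectrum.comap (algebraMap A S) Q ≠ closedPoint A ∧
      ∀ i, algebraMap A S (f i) ∈ Q.asIdeal} := by
  haveI : IsLocalRing (S ⧸ P.asIdeal) := GrothLib.FormalUnibranch.isLocalRing_of_finite_domain (R := A)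
  haveI : IsNoetherianRing S := IsNoetherianRing.of_finite A S
  haveI : IsAdicComplete (maximalIdeal (S ⧸ P.asIdeal)) (S ⧸ P.asIdeal) :=
    GrothLib.AdicExtra.isAdicComplete_localRing (R := A)
  have hinj : Function.Injective (algebraMap A (S ⧸ P.asIdeal)) := by
    rw [RingHom.injective_iff_ker_eq_bot, IsScalarTower.algebraMap_eq A S (S ⧸ P.asIdeal),
      ← RingHom.comap_ker, Ideal.Quotient.algebraMap_eq, Ideal.mk_ker, hP]
  haveI : Algebra.IsIntegral A (S ⧸ P.asIdeal) := Algebra.IsIntegral.of_finite A _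
  have hcm : (maximalIdeal (S ⧸ P.asIdeal)).comap (algebraMap A (S ⧸ P.asIdeal)) = maximalIdeal A :=
    IsLocalRing.eq_maximalIdeal (Ideal.isMaximal_comap_of_isIntegral_of_isMaximal (maximalIdeal _))
  have h := isConnected_section (B := S ⧸ P.asIdeal)
    (hdim.trans_eq (GrothLib.Dim.ringKrullDim_eq_of_isIntegral hinj).symm)
    (fun i => algebraMap A _ (f i))
    (fun i => (hcm.ge (hf i) :))
  have h' := h.image (PrimeSpectrum.comap (Ideal.Quotient.mk P.asIdeal)) (by fun_prop : Continuous _).continuousOn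
  convert h' using 1
  ext Q
  constructor
  · rintro ⟨hPQ, hQ, hfQ⟩
    obtain ⟨Q', rfl⟩ : Q ∈ Set.range (PrimeSpectrum.comap (Ideal.Quotient.mk P.asIdeal)) := by
      rw [range_comap_of_surjective _ _ Ideal.Quotient.mk_surjective, Ideal.mk_ker]
      exact hPQ
    exact ⟨Q', ⟨fun e => hQ (by rw [e]; exact PrimeSpectrum.ext hcm),
      hfQ⟩, rfl⟩
  · rintro ⟨Q', ⟨hQ', hfQ⟩, rfl⟩
    refine ⟨fun x hx => ?_, fun e => hQ' ?_, hfQ⟩
    · show Ideal.Quotient.mk P.asIdeal x ∈ Q'.asIdeal
      rw [Ideal.Quotient.eq_zero_iff_mem.2 hx]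
      exact zero_mem _
    · refine PrimeSpectrum.ext (IsLocalRing.eq_maximalIdeal ?_)
      refine Ideal.isMaximal_of_isIntegral_of_isMaximal_comap (R := A) Q'.asIdeal ?_
      have e' : Q'.asIdeal.comap (algebraMap A (S ⧸ P.asIdeal)) = maximalIdeal A :=
        congrArg PrimeSpectrum.asIdeal e
      rw [e']
      exact maximalIdeal.isMaximal A

variable [IsIntegrallyClosed A] {k : ℕ}

/-- Components of a cover of the punctured spectrum meet a linear section in connected sets. -/
theorem isConnected_component_section (hdim : ((k + 2 : ℕ) : WithBot ℕ∞) ≤ ringKrullDim A)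
    (f : Fin k → A) (hf : ∀ i, f i ∈ maximalIdeal A) (V : FEt.Cat (FEt.puncturedSpec A : Scheme.{u}))
    {Z : Set V.left} (hZ : Z ∈ irreducibleComponents V.left) :
    _root_.IsConnected (Z ∩ {x : V.left | ∀ i, f i ∈ (((V.hom x).1 : Spec (CommRingCat.of A)) : PrimeSpectrum A).asIdeal}) := by
  have hdim2 : (2 : WithBot ℕ∞) ≤ ringKrullDim A :=
    le_trans (by exact_mod_cast Nat.le_add_left 2 k) hdim
  have hdepth := GrothLib.FEt21.two_le_depth_of_normal A hdim2
  let U := FEt.puncturedSpec A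
  let g : V.left ⟶ (U : Scheme.{u}) := V.hom
  haveI : IsFinite g := V.prop.1
  haveI : Etale g := V.prop.2
  haveI : CompactSpace (U : Scheme.{u}) := isCompact_iff_compactSpace.1 (NoetherianSpace.isCompact _)
  haveI : (U : Scheme.{u}).IsQuasiAffine := Scheme.IsQuasiAffine.of_isImmersion U.ι
  haveI : V.left.IsQuasiAffine := Scheme.IsQuasiAffine.of_isAffineHom g
  haveI := GrothLib.Depth.isIso_ι_appTop (GrothLib.FEt21.depthTwoOutside_puncturedSpec A hdepth)
  letI := (GrothLib.FEt21.secHom V).toAlgebra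
  haveI : Module.Finite A Γ(V.left, ⊤) := GrothLib.FEt21.finite_sections hdim2 V
  let q : Spec Γ(V.left, ⊤) ⟶ Spec (CommRingCat.of A) := Spec.map (CommRingCat.ofHom (GrothLib.FEt21.secHom V))
  let e : Spec Γ((U : Scheme.{u}), ⊤) ≅ Spec (CommRingCat.of A) :=
    Scheme.Spec.mapIso ((Scheme.ΓSpecIso (CommRingCat.of A)).symm ≪≫ asIso U.ι.appTop).op
  have sq : IsPullback V.left.toSpecΓ g q U.ι := by
    refine ((Scheme.isPullback_toSpecΓ_toSpecΓ g).flip).of_iso (Iso.refl _) (Iso.refl _) (Iso.refl _) e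
      (by simp) (by simp) ?_ ?_
    · show Spec.map g.appTop ≫ Spec.map (_ ≫ U.ι.appTop) = 𝟙 _ ≫ Spec.map (CommRingCat.ofHom (GrothLib.FEt21.secHom V))
      rw [Category.id_comp, ← Spec.map_comp]
      rfl
    · show (U : Scheme.{u}).toSpecΓ ≫ Spec.map (_ ≫ U.ι.appTop) = 𝟙 _ ≫ U.ι
      rw [Category.id_comp, Spec.map_comp, ← Category.assoc, ← Scheme.toSpecΓ_naturality, Category.assoc]
      exact (congrArg (U.ι ≫ ·) (toSpecΓ_SpecMap_ΓSpecIso_inv (CommRingCat.of A))).trans (Category.comp_id _)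
  let j : V.left → PrimeSpectrum Γ(V.left, ⊤) := fun x => V.left.toSpecΓ x
  have hj : IsOpenEmbedding j := V.left.toSpecΓ.isOpenEmbedding
  have hcomp : ∀ x, PrimeSpectrum.comap (algebraMap A Γ(V.left, ⊤)) (j x) = (g x).1 := fun x =>
    congrArg (fun h : V.left ⟶ Spec (CommRingCat.of A) => h x) sq.w
  have hrange : ∀ Q : PrimeSpectrum Γ(V.left, ⊤),
      PrimeSpectrum.comap (algebraMap A Γ(V.left, ⊤)) Q ≠ closedPoint A → ∃ x, j x = Q := fun Q hQ => by
    obtain ⟨x, hx, -⟩ := Scheme.exists_preimage_of_isPullback sq Q (⟨q Q, hQ⟩ : U) rfl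
    exact ⟨x, hx⟩
  haveI : Nonempty U := by
    refine ⟨⟨(⟨⊥, Ideal.isPrime_bot⟩ : PrimeSpectrum A), fun h => ?_⟩⟩
    have h' : (⊥ : Ideal A) = maximalIdeal A := congrArg PrimeSpectrum.asIdeal h
    have hf' := (IsLocalRing.isField_iff_maximalIdeal_eq (R := A)).2 h'.symm
    rw [ringKrullDim_eq_zero_of_isField hf'] at hdim2
    exact absurd (show (2 : ℕ) ≤ 0 by exact_mod_cast hdim2) (by norm_num)
  haveI : IrreducibleSpace (U : Scheme.{u}) := by
    haveI : IsIntegral (U : Scheme.{u}) := isIntegral_of_isOpenImmersion U.ι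
    infer_instance
  have hgen := hZ.1.isGenericPoint_genericPoint (isClosed_of_mem_irreducibleComponents Z hZ)
  set η := hZ.1.genericPoint
  have hη : (g η).1 = genericPoint (Spec (CommRingCat.of A)) := by
    rw [GrothLib.FEt21.generic_map_eq g hZ hgen]
    exact genericPoint_eq_of_isOpenImmersion U.ι
  have hP : (j η).asIdeal.comap (algebraMap A Γ(V.left, ⊤)) = ⊥ := by
    have := congrArg PrimeSpectrum.asIdeal ((hcomp η).trans (hη.trans (genericPoint_eq_bot_of_affine _)))
    exact this
  have h := isConnected_section_finite hdim f hf (j η) hP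
  have himg : j '' (Z ∩ {x : V.left | ∀ i, f i ∈ (((V.hom x).1 : Spec (CommRingCat.of A)) : PrimeSpectrum A).asIdeal}) =
      {Q : PrimeSpectrum Γ(V.left, ⊤) | j η ≤ Q ∧ PrimeSpectrum.comap (algebraMap A _) Q ≠ closedPoint A ∧
      ∀ i, algebraMap A _ (f i) ∈ Q.asIdeal} := by
    ext Q
    constructor
    · rintro ⟨x, ⟨hxZ, hxf⟩, rfl⟩
      refine ⟨(PrimeSpectrum.le_iff_specializes _ _).2 ((hgen.specializes hxZ).map hj.continuous), ?_, fun i => ?_⟩
      · rw [hcomp]; exact (g x).2
      · show f i ∈ (PrimeSpectrum.comap (algebraMap A _) (j x)).asIdeal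
        rw [hcomp]; exact hxf i
    · rintro ⟨hle, hne, hfi⟩
      obtain ⟨x, rfl⟩ := hrange Q hne
      refine ⟨x, ⟨?_, fun i => ?_⟩, rfl⟩
      · rw [← hgen.def]
        exact specializes_iff_mem_closure.1
          (hj.isInducing.specializes_iff.1 ((PrimeSpectrum.le_iff_specializes _ _).1 hle))
      · show f i ∈ (g x).1.asIdeal
        rw [← hcomp]; exact hfi i
  rw [← himg] at h
  exact ⟨h.nonempty.of_image, hj.isInducing.isPreconnected_image.1 h.isPreconnected⟩

/-- Full faithfulness of the restriction to a linear section. -/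
theorem fullyFaithful_section (hdim : ((k + 2 : ℕ) : WithBot ℕ∞) ≤ ringKrullDim A)
    (f : Fin k → A) (hf : ∀ i, f i ∈ maximalIdeal A) {Y : Scheme.{u}}
    (i : Y ⟶ (FEt.puncturedSpec A : Scheme.{u})) [IsClosedImmersion i]
    (hi : Set.range i = {x : (FEt.puncturedSpec A : Scheme.{u}) |
      ∀ j, f j ∈ ((x.1 : Spec (CommRingCat.of A)) : PrimeSpectrum A).asIdeal}) :
    ConnectedSpace Y ∧ (FEt.restrict i).Full ∧ (FEt.restrict i).Faithful := by
  let U := FEt.puncturedSpec A
  have hprop : (MorphismProperty.isomorphisms Scheme.{u}) (𝟙 (U : Scheme.{u})) := inferInstanceAs (IsIso _)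
  have hU : Pi1.IsNormalScheme (U : Scheme.{u}) :=
    GrothLib.EtDer.isNormalScheme_etale (GrothLib.ProperFib19.isNormalScheme_spec A) U.ι
  refine ⟨?_, GrothLib.FEt21.fullyFaithful_of_clopen i (fun V => ?_) (fun V => ?_)⟩
  · let one : FEt.Cat (U : Scheme.{u}) :=
      MorphismProperty.Over.mk ⊤ (𝟙 (U : Scheme.{u})) ⟨inferInstance, inferInstance⟩
    haveI : IrreducibleSpace (U : Scheme.{u}) := by
      haveI : Nonempty U := by
        refine ⟨⟨(⟨⊥, Ideal.isPrime_bot⟩ : PrimeSpectrum A), fun h => ?_⟩⟩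
        have h' : (⊥ : Ideal A) = maximalIdeal A := congrArg PrimeSpectrum.asIdeal h
        have hf' := (IsLocalRing.isField_iff_maximalIdeal_eq (R := A)).2 h'.symm
        rw [ringKrullDim_eq_zero_of_isField hf'] at hdim
        exact absurd (show k + 2 ≤ 0 by exact_mod_cast hdim) (by omega)
      haveI : IsIntegral (U : Scheme.{u}) := isIntegral_of_isOpenImmersion U.ι
      infer_instance
    have hZ : (Set.univ : Set one.left) ∈ irreducibleComponents one.left :=
      ⟨IrreducibleSpace.isIrreducible_univ (U : Scheme.{u}), fun _ _ _ => Set.subset_univ _⟩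
    have h := isConnected_component_section hdim f hf one hZ
    rw [Set.univ_inter] at h
    have h' : _root_.IsConnected (Set.range i) := by rw [hi]; exact h
    rw [← Set.image_univ] at h'
    exact connectedSpace_iff_univ.2 ⟨h'.nonempty.of_image,
      i.isClosedEmbedding.isInducing.isPreconnected_image.1 h'.isPreconnected⟩
  all_goals
    haveI : IsFinite V.hom := V.prop.1
    haveI : Etale V.hom := V.prop.2
    have hdom : ∀ z : V.left, IsDomain (V.left.presheaf.stalk z) := fun z =>
      (GrothLib.EtDer.isNormalScheme_etale hU V.hom z).1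
  · intro D hD he
    refine Set.eq_empty_of_forall_notMem fun d hd => ?_
    have hZ := irreducibleComponent_mem_irreducibleComponents d
    obtain ⟨x, hxZ, hxf⟩ := (isConnected_component_section hdim f hf V hZ).nonempty
    have hxD : x ∈ D := (hD.connectedComponent_subset hd)
      (isIrreducible_irreducibleComponent.isPreirreducible.isPreconnected.subset_connectedComponent
        mem_irreducibleComponent hxZ)
    obtain ⟨p, hp⟩ : x ∈ Set.range (pullback.fst V.hom i) := by
      rw [Scheme.Pullback.range_fst]; show V.hom x ∈ Set.range i; rw [hi]; exact hxf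
    exact Set.eq_empty_iff_forall_notMem.1 he p (by show pullback.fst V.hom i p ∈ D; rwa [hp])
  · intro C hC
    let ρ := pullback.fst V.hom i
    haveI : IsClosedImmersion ρ := MorphismProperty.pullback_fst _ _ inferInstance
    haveI : IrreducibleSpace ((Functor.fromPUnit (U : Scheme.{u})).obj V.right) := by
      have hne : Nonempty U := by
        refine ⟨⟨(⟨⊥, Ideal.isPrime_bot⟩ : PrimeSpectrum A), fun h => ?_⟩⟩
        have h' : (⊥ : Ideal A) = maximalIdeal A := congrArg PrimeSpectrum.asIdeal h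
        have hf' := (IsLocalRing.isField_iff_maximalIdeal_eq (R := A)).2 h'.symm
        rw [ringKrullDim_eq_zero_of_isField hf'] at hdim
        exact absurd (show k + 2 ≤ 0 by exact_mod_cast hdim) (by omega)
      haveI : IsIntegral (U : Scheme.{u}) := isIntegral_of_isOpenImmersion U.ι
      exact inferInstanceAs (IrreducibleSpace (U : Scheme.{u}))
    have hfin := GrothLib.FEt21.finite_components V.hom
    let T := {Z : Set V.left | Z ∈ irreducibleComponents V.left ∧ ∃ p ∈ C, ρ p ∈ Z}
    refine ⟨⋃ Z ∈ T, Z, Set.Finite.isClopen_biUnion (hfin.subset fun _ h => h.1)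
      fun Z hZ => GrothLib.FEt21.isClopen_component hdom hfin hZ.1, ?_⟩
    ext p
    simp only [Set.mem_preimage, Set.mem_iUnion, exists_prop]
    constructor
    · rintro ⟨Z, ⟨hZ, p₀, hp₀C, hp₀Z⟩, hpZ⟩
      have hmem : ∀ p', ρ p' ∈ Z → ρ p' ∈ Z ∩ {x : V.left | ∀ j, f j ∈ (((V.hom x).1 : Spec (CommRingCat.of A)) : PrimeSpectrum A).asIdeal} :=
        fun p' hp' => ⟨hp', by
          have : ρ p' ∈ Set.range ρ := ⟨p', rfl⟩
          rw [Scheme.Pullback.range_fst] at this
          have h2 : V.hom (ρ p') ∈ Set.range i := this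
          rw [hi] at h2
          exact h2⟩
      have hpre : _root_.IsPreconnected (ρ ⁻¹' Z) := by
        refine ρ.isClosedEmbedding.isInducing.isPreconnected_image.1 ?_
        have heq : ρ '' (ρ ⁻¹' Z) = Z ∩ {x : V.left | ∀ j, f j ∈ (((V.hom x).1 : Spec (CommRingCat.of A)) : PrimeSpectrum A).asIdeal} := ?_
        · rw [heq]; exact (isConnected_component_section hdim f hf V hZ).2
        ext x
        constructor
        · rintro ⟨p', hp', rfl⟩; exact hmem p' hp'
        · rintro ⟨hxZ, hxf⟩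
          obtain ⟨p', hp'⟩ : x ∈ Set.range ρ := by
            rw [Scheme.Pullback.range_fst]; show V.hom x ∈ Set.range i; rw [hi]; exact hxf
          exact ⟨p', by show ρ p' ∈ Z; rwa [hp'], hp'⟩
      exact hpre.subset_isClopen hC ⟨p₀, hp₀Z, hp₀C⟩ hpZ
    · intro hp
      exact ⟨irreducibleComponent (ρ p), ⟨irreducibleComponent_mem_irreducibleComponents _, p, hp,
        mem_irreducibleComponent⟩, mem_irreducibleComponent⟩

end GrothLib.Conn1
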