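import Groth.Agent.Lib.Conn1.LinearSection
import Groth.Agent.Lib.Hensel.LocalSplit
import Groth.Agent.Lib.Hensel.CompletionHens
import Groth.Agent.Lib.CMFree.Regular
import Mathlib.RingTheory.LocalRing.Etale
import Mathlib.RingTheory.AdjoinRoot
import Mathlib.RingTheory.AdicCompletion.AsTensorProduct

/-!
# Finite étale extensions of quotients of complete regular local rings by few equations
-/

set_option autoImplicit false
set_option linter.style.haveILetI false
universe u

open IsLocalRing Polynomial TensorProduct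

namespace GrothLib.Conn1

theorem comap_closedPoint_of_surjective {B L : Type u} [CommRing B] [CommRing L] [IsLocalRing B] [IsLocalRing L]
    (φ : B →+* L) (h : Function.Surjective φ) :
    PrimeSpectrum.comap φ (closedPoint L) = closedPoint B :=
  haveI : IsLocalHom φ := IsLocalHom.of_surjective φ h
  IsLocalRing.comap_closedPoint φ

/-- The punctured spectrum of a quotient of a complete local domain by few equations is connected. -/
theorem isConnected_punct_of_surjective {B L : Type u} [CommRing B] [IsDomain B] [IsLocalRing B]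
    [IsNoetherianRing B] [IsAdicComplete (maximalIdeal B) B] [CommRing L] [IsLocalRing L]
    (φ : B →+* L) (hφ : Function.Surjective φ) {k : ℕ} (hdim : ((k + 2 : ℕ) : WithBot ℕ∞) ≤ ringKrullDim B)
    (f : Fin k → B) (hf : ∀ i, f i ∈ maximalIdeal B) (hker : RingHom.ker φ = Ideal.span (Set.range f)) :
    _root_.IsConnected (punct L) := by
  have h := isConnected_section hdim f hf
  have himg : PrimeSpectrum.comap φ '' punct L =
      {Q : PrimeSpectrum B | Q ≠ closedPoint B ∧ ∀ i, f i ∈ Q.asIdeal} := by
    ext Q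
    constructor
    · rintro ⟨Q', hQ', rfl⟩
      refine ⟨fun e => hQ' (PrimeSpectrum.comap_injective_of_surjective φ hφ
        (e.trans (comap_closedPoint_of_surjective φ hφ).symm)), fun i => ?_⟩
      show φ (f i) ∈ Q'.asIdeal
      rw [RingHom.mem_ker.1 (hker.ge (Ideal.subset_span (Set.mem_range_self i)))]
      exact zero_mem _
    · rintro ⟨hQ, hfQ⟩
      obtain ⟨Q', rfl⟩ : Q ∈ Set.range (PrimeSpectrum.comap φ) := by
        rw [range_comap_of_surjective _ _ hφ, hker]
        exact Ideal.span_le.2 (by rintro _ ⟨i, rfl⟩; exact hfQ i)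
      exact ⟨Q', fun e => hQ (by rw [show Q' = closedPoint L from e]; exact comap_closedPoint_of_surjective φ hφ), rfl⟩
  rw [← himg] at h
  exact ⟨h.nonempty.of_image,
    (PrimeSpectrum.isClosedEmbedding_comap_of_surjective _ φ hφ).isInducing.isPreconnected_image.1 h.isPreconnected⟩

/-- Connected punctured spectrum for finite étale local extensions of `S/(s)`. -/
theorem isConnected_punct_of_etale {S R L : Type u} [CommRing S] [IsRegularLocalRing S]
    [IsAdicComplete (maximalIdeal S) S] [CommRing R] [IsLocalRing R] [CommRing L] [IsLocalRing L]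
    [Algebra R L] [Module.Finite R L] [Algebra.Etale R L]
    (π : S →+* R) (hπ : Function.Surjective π) (s : Finset S) (hker : RingHom.ker π = Ideal.span (s : Set S))
    {d : ℕ} (hd : ringKrullDim S = d) (hs : s.card + 2 ≤ d) :
    _root_.IsConnected (punct L) := by
  classical
  haveI : Module.FaithfullyFlat R L := by
    haveI : IsLocalHom (algebraMap R L) :=
      ((local_hom_TFAE (algebraMap R L)).out 0 4).2
        (eq_maximalIdeal (Ideal.isMaximal_comap_of_isIntegral_of_isMaximal (maximalIdeal L)))
    exact Module.FaithfullyFlat.of_flat_of_isLocalHom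
  haveI : FaithfulSMul R L :=
    (faithfulSMul_iff_algebraMap_injective R L).2 (FaithfulSMul.algebraMap_injective R L)
  haveI : Module.Free R L := Module.free_of_flat_of_isLocalRing
  obtain ⟨β, hβ⟩ := IsLocalRing.exists_adjoin_eq_top (R := R) (S := L)
  let g := minpoly R β
  have hgm : g.Monic := minpoly.monic (Algebra.IsIntegral.isIntegral β)
  let adj := IsAdjoinRootMonic.mkOfAdjoinEqTop' hβ
  obtain ⟨G, hG, -, hGm⟩ := Polynomial.lifts_and_natDegree_eq_and_monic
    (show g ∈ Polynomial.lifts π by rw [Polynomial.lifts_iff_coeff_lifts]; exact fun n => hπ _) hgm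
  have hGeval : G.eval₂ ((algebraMap R L).comp π) β = 0 := by
    rw [← Polynomial.eval₂_map, hG]
    exact minpoly.aeval R β
  let φ : AdjoinRoot G →+* L := AdjoinRoot.lift ((algebraMap R L).comp π) β hGeval
  have hφmk : ∀ P : S[X], φ (AdjoinRoot.mk G P) = aeval β (P.map π) := fun P => by
    rw [AdjoinRoot.lift_mk, aeval_def, Polynomial.eval₂_map]
  have hφ : Function.Surjective φ := fun x => by
    have hx : x ∈ Algebra.adjoin R {β} := hβ ▸ Algebra.mem_top
    rw [Algebra.adjoin_singleton_eq_range_aeval] at hx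
    obtain ⟨p, rfl⟩ := hx
    obtain ⟨P, rfl⟩ := Polynomial.map_surjective π hπ p
    exact ⟨AdjoinRoot.mk G P, hφmk P⟩
  let fs : Fin s.card → S := fun i => (s.equivFin.symm i : S)
  have hrange : Set.range fs = (s : Set S) := by
    ext x
    exact ⟨by rintro ⟨i, rfl⟩; exact (s.equivFin.symm i).2, fun hx => ⟨s.equivFin ⟨x, hx⟩, by simp [fs]⟩⟩
  have hkerφ : RingHom.ker φ = Ideal.span (Set.range fun i => algebraMap S (AdjoinRoot G) (fs i)) := by
    refine le_antisymm (fun y hy => ?_) (Ideal.span_le.2 ?_)
    · obtain ⟨P, rfl⟩ := AdjoinRoot.mk_surjective y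
      rw [RingHom.mem_ker, hφmk] at hy
      obtain ⟨q, hq⟩ : g ∣ P.map π := adj.toIsAdjoinRoot.map_eq_zero_iff.1 (by
        rw [← adj.toIsAdjoinRoot.aeval_root_eq_map, show adj.toIsAdjoinRoot.root = β from IsAdjoinRootMonic.mkOfAdjoinEqTop'_root hβ]; exact hy)
      obtain ⟨Q, rfl⟩ := Polynomial.map_surjective π hπ q
      have hd' : P - G * Q ∈ Ideal.map (C : S →+* S[X]) (RingHom.ker π) := by
        rw [← Polynomial.ker_mapRingHom, RingHom.mem_ker]
        simp [coe_mapRingHom, hG, hq, g]
      rw [hker, Ideal.map_span, ← hrange, ← Set.range_comp] at hd'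
      have := Ideal.mem_map_of_mem (AdjoinRoot.mk G) hd'
      rw [Ideal.map_span, ← Set.range_comp, map_sub, map_mul, AdjoinRoot.mk_self, zero_mul, sub_zero] at this
      exact this
    · rintro _ ⟨i, rfl⟩
      rw [SetLike.mem_coe, RingHom.mem_ker, AdjoinRoot.algebraMap_eq, AdjoinRoot.lift_of]
      rw [RingHom.comp_apply, RingHom.mem_ker.1 (hker.ge (Ideal.subset_span (hrange.le ⟨i, rfl⟩))), map_zero]
  haveI : Module.Finite S (AdjoinRoot G) := hGm.finite_adjoinRoot
  haveI : IsNoetherianRing (AdjoinRoot G) := IsNoetherianRing.of_finite S _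
  haveI : Nontrivial (AdjoinRoot G) := φ.domain_nontrivial
  have hfmem : ∀ i, fs i ∈ maximalIdeal S := fun i => by
    refine le_maximalIdeal (RingHom.ker_ne_top π) ?_
    rw [hker]
    exact Ideal.subset_span (hrange.le ⟨i, rfl⟩)
  let M : Ideal (AdjoinRoot G) := (maximalIdeal S).map (algebraMap S (AdjoinRoot G))
  have hmapm : M.map φ = maximalIdeal L := by
    rw [Ideal.map_map, show φ.comp (algebraMap S (AdjoinRoot G)) = (algebraMap R L).comp π from
      AdjoinRoot.lift_comp_of _, ← Ideal.map_map, ((local_hom_TFAE π).out 0 0).1 (IsLocalHom.of_surjective π hπ) |> fun _ =>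
        map_maximalIdeal_of_surjective π hπ]
    exact Algebra.FormallyUnramified.map_maximalIdeal
  have hMeq : M = (maximalIdeal L).comap φ := by
    rw [← hmapm, Ideal.comap_map_of_surjective' φ hφ, sup_eq_left.2]
    rw [hkerφ, Ideal.span_le]
    rintro _ ⟨i, rfl⟩
    exact Ideal.mem_map_of_mem _ (hfmem i)
  have hMmax : M.IsMaximal := hMeq ▸ Ideal.comap_isMaximal_of_surjective φ hφ
  haveI : IsLocalRing (AdjoinRoot G) := IsLocalRing.of_unique_max_ideal ⟨M, hMmax, fun N hN => by
    refine (hMmax.eq_of_le hN.ne_top (Ideal.map_le_iff_le_comap.2 ?_)).symm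
    haveI := hN
    exact (eq_maximalIdeal (Ideal.isMaximal_comap_of_isIntegral_of_isMaximal (R := S) N)).ge⟩
  have hmax : maximalIdeal (AdjoinRoot G) = M := (eq_maximalIdeal hMmax).symm
  haveI : Module.Free S (AdjoinRoot G) := hGm.free_adjoinRoot
  have hdim : ringKrullDim (AdjoinRoot G) = d := by
    rw [GrothLib.Dim.ringKrullDim_eq_of_isIntegral (R := S) (FaithfulSMul.algebraMap_injective S (AdjoinRoot G)), hd]
  haveI : IsRegularLocalRing (AdjoinRoot G) := by
    refine IsRegularLocalRing.of_spanFinrank_maximalIdeal_le _ ?_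
    rw [hmax, hdim, ← hd, ← (isRegularLocalRing_iff S).1 inferInstance]
    exact_mod_cast Ideal.spanFinrank_map_le_of_fg _ (IsNoetherian.noetherian (maximalIdeal S))
  haveI : IsDomain (AdjoinRoot G) := GrothLib.CMFree.isDomain_of_isRegularLocalRing _
  haveI : IsAdicComplete (maximalIdeal (AdjoinRoot G)) (AdjoinRoot G) :=
    GrothLib.AdicExtra.isAdicComplete_localRing (R := S)
  exact isConnected_punct_of_surjective φ hφ (k := s.card) (by rw [hdim]; exact_mod_cast hs) _
    (fun i => hmax.ge (Ideal.mem_map_of_mem _ (hfmem i))) hkerφ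

/-- Connected punctured spectra at the closed points of a finite étale algebra over a local ring whose
completion is `S/(s)`. -/
theorem isConnected_punct_localization {A S B : Type u} [CommRing A] [IsNoetherianRing A] [IsLocalRing A]
    [CommRing S] [IsRegularLocalRing S] [IsAdicComplete (maximalIdeal S) S] {d : ℕ} (hd : ringKrullDim S = d)
    (s : Finset S) (hs : s.card + 2 ≤ d)
    (e : AdicCompletion (maximalIdeal A) A ≃+* S ⧸ Ideal.span (s : Set S))
    [CommRing B] [Algebra A B] [Module.Finite A B] [Algebra.Etale A B] (M : PrimeSpectrum B)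
    (hM : PrimeSpectrum.comap (algebraMap A B) M = closedPoint A) :
    _root_.IsConnected {Q : PrimeSpectrum B | Q ≤ M ∧ Q ≠ M} := by
  let C := AdicCompletion (maximalIdeal A) A
  have hmC : (maximalIdeal A).map (algebraMap A C) = maximalIdeal C :=
    (AdicCompletion.maximalIdeal_eq_map (R := A)).symm
  haveI : IsLocalHom (algebraMap A C) := ((local_hom_TFAE (algebraMap A C)).out 0 2).2 hmC.le
  haveI : Module.FaithfullyFlat A C := Module.FaithfullyFlat.of_flat_of_isLocalHom
  let T := C ⊗[A] B
  let ι : B →+* T := (Algebra.TensorProduct.includeRight : B →ₐ[A] T).toRingHom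
  haveI : IsNoetherianRing T := IsNoetherianRing.of_finite C T
  letI : Algebra B T := Algebra.TensorProduct.rightAlgebra
  haveI : Module.FaithfullyFlat B T := Module.FaithfullyFlat.of_linearEquiv B (B ⊗[A] C)
    (AlgEquiv.ofRingEquiv (f := (Algebra.TensorProduct.comm A B C).toRingEquiv) fun b => by
      show (Algebra.TensorProduct.comm A B C) (b ⊗ₜ[A] (1 : C)) = (1 : C) ⊗ₜ[A] b
      rfl).toLinearEquiv.symm
  obtain ⟨q, hq⟩ := PrimeSpectrum.comap_surjective_of_faithfullyFlat (A := B) (B := T) M
  have hqA : q.asIdeal.comap (algebraMap A T) = maximalIdeal A := by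
    rw [show algebraMap A T = ι.comp (algebraMap A B) from
      (Algebra.TensorProduct.includeRight : B →ₐ[A] T).comp_algebraMap.symm, ← Ideal.comap_comap]
    exact (congrArg (fun x => Ideal.comap (algebraMap A B) (PrimeSpectrum.asIdeal x)) hq).trans
      (congrArg PrimeSpectrum.asIdeal hM)
  haveI hover : q.asIdeal.LiesOver (maximalIdeal C) := ⟨by
    refine ((maximalIdeal.isMaximal C).eq_of_le (Ideal.IsPrime.comap _).ne_top ?_)
    rw [← hmC, Ideal.map_le_iff_le_comap, Ideal.under_def,
      Ideal.comap_comap, ← IsScalarTower.algebraMap_eq, hqA]⟩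
  let L := Localization.AtPrime q.asIdeal
  haveI : Module.Finite C L := GrothLib.Hensel.finite_localization_of_quasiFiniteAt q.asIdeal
  haveI : Algebra.FormallyEtale T L := Algebra.FormallyEtale.of_isLocalization (M := q.asIdeal.primeCompl)
  haveI : Algebra.FormallyEtale C L := Algebra.FormallyEtale.comp C T L
  haveI : Algebra.FinitePresentation C L :=
    (Algebra.FinitePresentation.of_finiteType (R := C) (A := L)).1 inferInstance
  haveI : Algebra.Etale C L := ⟨inferInstance, inferInstance⟩
  let π : S →+* C := (e.symm.toRingHom).comp (Ideal.Quotient.mk (Ideal.span (s : Set S)))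
  have hL : _root_.IsConnected (punct L) := isConnected_punct_of_etale (L := L) π
    (e.symm.surjective.comp Ideal.Quotient.mk_surjective) s
    (by
      ext x
      simp [π, RingHom.mem_ker, Ideal.Quotient.eq_zero_iff_mem]) hd hs
  let ψ : B →+* L := (algebraMap T L).comp ι
  have h := hL.image (PrimeSpectrum.comap ψ) (by fun_prop : Continuous _).continuousOn
  convert h using 1
  have hψ : Module.Flat B L := Module.Flat.trans B T L
  ext Q
  constructor
  · rintro ⟨hQM, hne⟩
    obtain ⟨q', hq'le, hq'over⟩ : ∃ q' : Ideal T, q'.IsPrime ∧ q' ≤ q.asIdeal ∧ q'.comap ι = Q.asIdeal := by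
      haveI : q.asIdeal.LiesOver M.asIdeal := ⟨(congrArg PrimeSpectrum.asIdeal hq).symm⟩
      obtain ⟨q', h1, h2, h3⟩ := q.asIdeal.exists_ideal_le_liesOver_of_le (p := Q.asIdeal) (q := M.asIdeal) hQM
      exact ⟨q', h2, h1, h3.over.symm⟩
    obtain ⟨hle, hover'⟩ := hq'over
    haveI := hq'le
    have hdisj : Disjoint (q.asIdeal.primeCompl : Set T) q' := Set.disjoint_left.2 fun x hx hx' => hx (hle hx')
    let q'' : PrimeSpectrum L := ⟨q'.map (algebraMap T L),
      IsLocalization.isPrime_of_isPrime_disjoint q.asIdeal.primeCompl L q' hq'le hdisj⟩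
    have hcomap : PrimeSpectrum.comap ψ q'' = Q := by
      apply PrimeSpectrum.ext
      show (q'.map (algebraMap T L)).comap ((algebraMap T L).comp ι) = Q.asIdeal
      rw [← Ideal.comap_comap]
      exact (congrArg (Ideal.comap ι) (IsLocalization.comap_map_of_isPrime_disjoint q.asIdeal.primeCompl L hq'le hdisj)).trans hover'
    refine ⟨q'', fun hc => hne ?_, hcomap⟩
    rw [← hcomap, show q'' = closedPoint L from hc, ← hq]
    apply PrimeSpectrum.ext
    show (maximalIdeal L).comap ((algebraMap T L).comp ι) = q.asIdeal.comap ι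
    ext x
    exact IsLocalization.AtPrime.to_map_mem_maximal_iff L q.asIdeal (ι x)
  · rintro ⟨Q', hQ', rfl⟩
    have hle : PrimeSpectrum.comap ψ Q' ≤ M := by
      rw [← hq]
      intro x hx
      show ι x ∈ q.asIdeal
      have := le_maximalIdeal Q'.isPrime.ne_top hx
      exact (IsLocalization.AtPrime.to_map_mem_maximal_iff L q.asIdeal (ι x)).1 this
    refine ⟨hle, fun hc => hQ' (PrimeSpectrum.ext (le_antisymm (le_maximalIdeal Q'.isPrime.ne_top) ?_))⟩
    show maximalIdeal L ≤ Q'.asIdeal
    haveI : Algebra.IsIntegral C L := Algebra.IsIntegral.of_finite C L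
    haveI : IsLocalHom (algebraMap C L) := IsLocalHom.mk fun c hc => by
      by_contra hcu
      have h1 : algebraMap C T c ∈ q.asIdeal := hover.over.le hcu
      have h2 : algebraMap C L c ∈ maximalIdeal L := by
        rw [IsScalarTower.algebraMap_apply C T L]
        exact (IsLocalization.AtPrime.to_map_mem_maximal_iff L q.asIdeal _).2 h1
      exact h2 hc
    rw [← Algebra.FormallyUnramified.map_maximalIdeal (R := C) (S := L),
      ← hmC, Ideal.map_map, ← IsScalarTower.algebraMap_eq A C L,
      Ideal.map_le_iff_le_comap]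
    have e1 : algebraMap A L = ψ.comp (algebraMap A B) := by
      rw [IsScalarTower.algebraMap_eq A T L]
      exact congrArg _ (Algebra.TensorProduct.includeRight : B →ₐ[A] T).comp_algebraMap.symm
    rw [e1, ← Ideal.comap_comap]
    exact ((congrArg (fun x => Ideal.comap (algebraMap A B) (PrimeSpectrum.asIdeal x)) hc).trans
      (congrArg PrimeSpectrum.asIdeal hM)).ge

end GrothLib.Conn1
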