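import Groth.Agent.Lib.Conn1.VDim
import Groth.Agent.Lib.FEt21.Clopen
import Groth.Agent.Lib.FEt21.Affine

/-!
# Covers of a local scheme with connected punctured local spectra
-/

set_option autoImplicit false
set_option backward.isDefEq.respectTransparency false
set_option linter.style.haveILetI false
universe u

open CategoryTheory CategoryTheory.Limits AlgebraicGeometry IsLocalRing Topology TopologicalSpace

namespace GrothLib.Conn1

variable {A : Type u} [CommRing A] [IsNoetherianRing A] [IsLocalRing A]

/-- Punctured spectra at closed points of covers are connected. -/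
def PunctConn (A : Type u) [CommRing A] [IsLocalRing A] : Prop :=
  ∀ (V : FEt.Cat (Spec (CommRingCat.of A))) (z : V.left), V.hom z = closedPoint A →
    _root_.IsConnected {x : V.left | x ⤳ z ∧ x ≠ z}

theorem punctConn_of_vdim (S : Type u) [CommRing S] [IsRegularLocalRing S]
    [IsAdicComplete (maximalIdeal S) S] {d : ℕ} (hd : ringKrullDim S = d) (s : Finset S) (hs : s.card + 2 ≤ d)
    (e : AdicCompletion (maximalIdeal A) A ≃+* S ⧸ Ideal.span (s : Set S)) : PunctConn A := by
  intro V z hz
  let g : V.left ⟶ Spec (CommRingCat.of A) := V.hom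
  haveI : IsFinite g := V.prop.1
  haveI : Etale g := V.prop.2
  haveI : IsAffine V.left := isAffine_of_isAffineHom g
  obtain ⟨φ, hφ⟩ := Spec.map_surjective (V.left.isoSpec.inv ≫ g)
  have h1 : IsFinite (Spec.map φ) := by rw [hφ]; infer_instance
  have h2 : Etale (Spec.map φ) := by rw [hφ]; infer_instance
  rw [IsFinite.SpecMap_iff] at h1
  rw [HasRingHomProperty.Spec_iff (P := @Etale)] at h2
  algebraize [φ.hom]
  let h : V.left ≃ₜ PrimeSpectrum Γ(V.left, ⊤) := Scheme.homeoOfIso V.left.isoSpec
  have hcomp : ∀ x, PrimeSpectrum.comap (algebraMap A Γ(V.left, ⊤)) (h x) = g x := fun x => by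
    show Spec.map φ (V.left.isoSpec.hom x) = g x
    rw [← Scheme.Hom.comp_apply, hφ, Iso.hom_inv_id_assoc]
  have hc := isConnected_punct_localization hd s hs e (h z) ((hcomp z).trans hz)
  have hset : {x : V.left | x ⤳ z ∧ x ≠ z} = h ⁻¹' {Q | Q ≤ h z ∧ Q ≠ h z} := by
    ext x
    simp only [Set.mem_preimage, Set.mem_ofPred_eq, PrimeSpectrum.le_iff_specializes]
    rw [h.isInducing.specializes_iff, h.injective.ne_iff]
  rw [hset]
  exact h.isConnected_preimage.2 hc

theorem specializes_closedPoint (x : PrimeSpectrum A) : x ⤳ closedPoint A :=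
  (PrimeSpectrum.le_iff_specializes _ _).1 (le_maximalIdeal x.isPrime.ne_top)

/-- Connectedness of the punctured spectrum. -/
theorem connectedSpace_puncturedSpec (h : PunctConn A) :
    ConnectedSpace ↥(FEt.puncturedSpec A : Scheme.{u}) := by
  let one : FEt.Cat (Spec (CommRingCat.of A)) :=
    MorphismProperty.Over.mk ⊤ (𝟙 (Spec (CommRingCat.of A))) ⟨inferInstance, inferInstance⟩
  have h1 : _root_.IsConnected {x : PrimeSpectrum A | x ⤳ closedPoint A ∧ x ≠ closedPoint A} :=
    h one (closedPoint A) rfl
  have h2 : _root_.IsConnected ((FEt.puncturedSpec A).1 : Set (PrimeSpectrum A)) := by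
    refine (congrArg _root_.IsConnected (Set.ext fun x => ?_)).mp h1
    exact ⟨fun hx => hx.2, fun hx => ⟨specializes_closedPoint x, hx⟩⟩
  exact isConnected_iff_connectedSpace.1 h2

theorem exists_generic_specializes {T : Type u} [TopologicalSpace T] [NoetherianSpace T] [QuasiSober T]
    {C : Set T} (hC : IsOpen C) {x : T} (hx : x ∈ closure C) :
    ∃ c ∈ C, c ⤳ x ∧ closure {c} ∈ irreducibleComponents T := by
  have hfin : (irreducibleComponents T).Finite := NoetherianSpace.finite_irreducibleComponents
  have : C = ⋃ Z ∈ irreducibleComponents T, C ∩ Z := by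
    rw [← Set.inter_iUnion₂, ← Set.sUnion_eq_biUnion, sUnion_irreducibleComponents, Set.inter_univ]
  rw [this, hfin.closure_biUnion] at hx
  simp only [Set.mem_iUnion, exists_prop] at hx
  obtain ⟨Z, hZ, hxZ⟩ := hx
  have hZc := isClosed_of_mem_irreducibleComponents Z hZ
  have hg := hZ.1.isGenericPoint_genericPoint hZc
  have hne : (C ∩ Z).Nonempty := closure_nonempty_iff.1 ⟨x, hxZ⟩
  refine ⟨_, (hg.mem_open_set_iff hC).2 (by rwa [Set.inter_comm]), hg.specializes ?_, hg.def.symm ▸ hZ⟩
  exact closure_minimal Set.inter_subset_right hZc hxZ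

/-- Full faithfulness of restriction to the punctured spectrum. -/
theorem fullyFaithful_puncturedSpec (h : PunctConn A) :
    (FEt.restrict (FEt.puncturedSpec A).ι).Full ∧ (FEt.restrict (FEt.puncturedSpec A).ι).Faithful := by
  refine GrothLib.FEt21.fullyFaithful_of_clopen _ (fun V => ?_) (fun V => ?_)
  all_goals
    let g : V.left ⟶ Spec (CommRingCat.of A) := V.hom
    let ρ := pullback.fst V.hom (FEt.puncturedSpec A).ι
    haveI : IsFinite g := V.prop.1
    haveI : IsAffine V.left := isAffine_of_isAffineHom g
    have hrange : Set.range ρ = {x | g x ≠ closedPoint A} := by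
      rw [Scheme.Pullback.range_fst, Scheme.Opens.range_ι]
      rfl
    have hnot : ∀ x : V.left, g x = closedPoint A → ∀ y, x ⤳ y → y = x := fun x hx y hxy => by
      have hy : g y = closedPoint A := by
        have := (hxy.map g.continuous)
        rw [hx] at this
        exact this.mem_closed (isClosed_singleton_closedPoint (R := A)) rfl
      haveI : DiscreteTopology (g ⁻¹' {closedPoint A}) := (g.isDiscrete_preimage_singleton (closedPoint A)).to_subtype
      have hs : (⟨x, hx⟩ : g ⁻¹' {closedPoint A}) ⤳ ⟨y, hy⟩ := (subtype_specializes_iff _ _).2 hxy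
      exact (congrArg Subtype.val hs.eq).symm
  · intro D hD he
    refine Set.eq_empty_of_forall_notMem fun d hd => ?_
    obtain ⟨y, hyd, hy⟩ := g.isClosedMap.specializingMap (specializes_closedPoint (g d))
    obtain ⟨x, hxy, hx⟩ := (h V y hy).nonempty
    have hyD : y ∈ D := hyd.mem_closed hD.1 hd
    have hxD : x ∈ D := hxy.mem_open hD.2 hyD
    obtain ⟨p, hp⟩ : x ∈ Set.range ρ := by
      rw [hrange]; exact fun e => hx (hnot x e y hxy).symm
    exact Set.eq_empty_iff_forall_notMem.1 he p (by show ρ p ∈ D; rwa [hp])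
  · intro C hC
    haveI : IsOpenImmersion ρ := inferInstance
    haveI : IsLocallyNoetherian V.left := LocallyOfFiniteType.isLocallyNoetherian g
    haveI : IsNoetherian V.left := { }
    haveI : NoetherianSpace ↥V.left := inferInstance
    haveI : NoetherianSpace ↥((𝟭 Scheme).obj V.left) := ‹NoetherianSpace ↥V.left›
    have hopen : ∀ S : Set (pullback V.hom (FEt.puncturedSpec A).ι : Scheme.{u}), IsOpen S → IsOpen (ρ '' S) :=
      fun S hS => ρ.isOpenEmbedding.isOpenMap S hS
    have hsep : ∀ x, x ∈ closure (ρ '' C) → x ∈ closure (ρ '' Cᶜ) → False := fun x hx hx' => by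
      obtain ⟨c, ⟨p, hp, rfl⟩, hcx, -⟩ := exists_generic_specializes (hopen C hC.2) hx
      obtain ⟨_, ⟨p', hp', rfl⟩, hcx', -⟩ := exists_generic_specializes (hopen _ hC.compl.2) hx'
      by_cases hxg : g x = closedPoint A
      · have hne : ∀ q, ρ q ⤳ x → ρ q ∈ {y : V.left | y ⤳ x ∧ y ≠ x} := fun q hq => ⟨hq, fun e => by
          have : ρ q ∈ Set.range ρ := ⟨q, rfl⟩
          rw [hrange, e] at this
          exact this hxg⟩
        have hsub : {y : V.left | y ⤳ x ∧ y ≠ x} ⊆ Set.range ρ := fun y hy => by
          rw [hrange]; exact fun e => hy.2 (hnot y e x hy.1).symm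
        have hpre : _root_.IsPreconnected (ρ ⁻¹' {y : V.left | y ⤳ x ∧ y ≠ x}) := by
          refine ρ.isOpenEmbedding.isInducing.isPreconnected_image.1 ?_
          rw [Set.image_preimage_eq_of_subset hsub]
          exact (h V x hxg).2
        exact hp' (hpre.subset_isClopen hC ⟨p, hne p hcx, hp⟩ (hne p' hcx'))
      · obtain ⟨q, rfl⟩ : x ∈ Set.range ρ := by rw [hrange]; exact hxg
        have h1 : q ∈ C := (ρ.isOpenEmbedding.isInducing.specializes_iff.1 hcx).mem_closed hC.1 hp
        exact (ρ.isOpenEmbedding.isInducing.specializes_iff.1 hcx').mem_closed hC.compl.1 hp' h1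
    have hcov : closure (ρ '' C) ∪ closure (ρ '' Cᶜ) = Set.univ := by
      rw [← closure_union, ← Set.image_union, Set.union_compl_self, Set.image_univ]
      refine Set.eq_univ_of_forall fun x => ?_
      have hZ := irreducibleComponent_mem_irreducibleComponents x
      have hg := hZ.1.isGenericPoint_genericPoint (isClosed_of_mem_irreducibleComponents _ hZ)
      set c := hZ.1.genericPoint
      have hc : c ∈ Set.range ρ := by
        rw [hrange]
        intro hcg
        obtain ⟨y, hyc, hy⟩ := (h V c hcg).nonempty
        have hsub : irreducibleComponent x ⊆ closure {y} := by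
          rw [← hg.def]
          exact closure_minimal (Set.singleton_subset_iff.2 (specializes_iff_mem_closure.1 hyc)) isClosed_closure
        have hy' : y ∈ irreducibleComponent x :=
          hZ.2 isIrreducible_singleton.closure hsub (subset_closure rfl)
        exact hy (hnot c hcg y (hg.specializes hy'))
      exact closure_mono (Set.singleton_subset_iff.2 hc)
        (specializes_iff_mem_closure.1 (hg.specializes mem_irreducibleComponent))
    refine ⟨closure (ρ '' C), ⟨isClosed_closure, ?_⟩, ?_⟩
    · have : closure (ρ '' C) = (closure (ρ '' Cᶜ))ᶜ := by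
        ext x
        refine ⟨fun hx hx' => hsep x hx hx', fun hx => ?_⟩
        exact (hcov.symm ▸ Set.mem_univ x : x ∈ closure (ρ '' C) ∪ closure (ρ '' Cᶜ)).resolve_right hx
      rw [this]
      exact isClosed_closure.isOpen_compl
    · ext p
      refine ⟨fun hp => ?_, fun hp => subset_closure ⟨p, hp, rfl⟩⟩
      by_contra hpC
      exact hsep _ hp (subset_closure ⟨p, hpC, rfl⟩)

end GrothLib.Conn1
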